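import Cfsg.Agent.Lib.SmallDegrees.Basic
import Cfsg.Agent.Lib.Induced.Mackey

/-!
# Subgroups which keep the largest character degree

`Small (b + 1) G` says that all degrees are at most `b`.  If a subgroup `H` has a character `ψ` of
degree `b`, the characters over `ψ` extend it and vanish on `H` outside the core of `H`.
-/

set_option autoImplicit false
set_option linter.unusedSectionVars false

namespace Cfsg.Agent.Lib.IsaacsIndex.Basic

open Cfsg.Agent.Lib.Characters.Basic Cfsg.Agent.Lib.Characters.Complete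
open Cfsg.Agent.Lib.Induced.Basic Cfsg.Agent.Lib.Induced
open Cfsg.Agent.Lib.Clifford.Basic Cfsg.Agent.Lib.SmallDegrees.Basic
open Cfsg.Agent.Lib.DegreeBounds.Basic (charDegree_irr)
open scoped ComplexConjugate

universe u

variable {G : Type u} [Group G] [Finite G] {b : ℕ}

theorem small_mono {a c : ℕ} (h : Small a G) (hac : a ≤ c) : Small c G :=
  fun χ => lt_of_lt_of_le (h χ) hac

theorem degree_le (h : Small (b + 1) G) (χ : Cfsg.IrrCharacter G) :
    Cfsg.charDegree (χ : G → ℂ) ≤ b := Nat.lt_succ_iff.mp (h χ)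

/-- A function which is an irreducible character has degree at most `b`. -/
theorem degree_le_of_irr (h : Small (b + 1) G) {φ : G → ℂ} (hφ : Cfsg.IsIrrCharacter G φ)
    {d : ℕ} (hd : φ 1 = d) : d ≤ b := by
  have h1 := degree_le h ⟨φ, hφ⟩
  have h2 : (φ 1) = (Cfsg.charDegree φ : ℂ) := charDegree_irr ⟨φ, hφ⟩
  rw [hd] at h2
  have h3 : d = Cfsg.charDegree φ := by exact_mod_cast h2
  exact h3 ▸ h1

theorem exists_degree_eq (h : Small (b + 1) G) (h' : ¬ Small b G) :
    ∃ χ : Cfsg.IrrCharacter G, (χ : G → ℂ) 1 = b := by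
  simp only [SmallDegrees.Basic.Small, not_forall, not_lt] at h'
  obtain ⟨χ, hχ⟩ := h'
  exact ⟨χ, by rw [charDegree_irr χ, le_antisymm (degree_le h χ) hχ]⟩

/-- A character over one of the largest degree restricts to it. -/
theorem restrict_eq (h : Small (b + 1) G) (H : Subgroup G) [Fintype H] (ψ : Cfsg.IrrCharacter H)
    (hψ : (ψ : H → ℂ) 1 = b) (hb : 0 < b) (χ : Cfsg.IrrCharacter G)
    (hχ : Cfsg.classInner (fun x : H => (χ : G → ℂ) x) ψ ≠ 0) :
    (fun x : H => (χ : G → ℂ) x) = (ψ : H → ℂ) := by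
  obtain ⟨m, r, hr, hm, -, heq⟩ := exists_eq_nsmul_add
    (φ := fun x : H => (χ : G → ℂ) x) (isCharacter_comp H.subtype (isCharacter_irr χ)) ψ
  have h1 := congrFun heq 1
  obtain ⟨n, hn⟩ := exists_degree hr
  simp only [OneMemClass.coe_one, Pi.add_apply, Pi.smul_apply, charDegree_irr χ,
    hn, hψ] at h1
  rw [nsmul_eq_mul] at h1
  have hnat : Cfsg.charDegree (χ : G → ℂ) = m * b + n := by exact_mod_cast h1
  have hm0 : m ≠ 0 := fun e => hχ (by rw [hm, e, Nat.cast_zero])
  have hle := degree_le h χ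
  have hm1 : m = 1 := by
    by_contra hne
    have : 2 * b ≤ m * b := Nat.mul_le_mul_right b (by omega)
    omega
  have hn0 : n = 0 := by
    rw [hm1] at hnat
    omega
  rw [heq, hm1, one_nsmul, Clifford.Basic.eq_zero_of_apply_one_eq_zero hr (by rw [hn, hn0,
    Nat.cast_zero]), add_zero]

/-- The characters over a character of the largest degree vanish off the core. -/
theorem vanish_off_core (h : Small (b + 1) G) (H : Subgroup G) [Fintype H]
    (ψ : Cfsg.IrrCharacter H) (hψ : (ψ : H → ℂ) 1 = b) (hb : 0 < b) {x : H}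
    (hx : (x : G) ∉ H.normalCore) : (ψ : H → ℂ) x = 0 := by
  classical
  have := Fintype.ofFinite G
  have := Fintype.ofFinite (Cfsg.IrrCharacter G)
  obtain ⟨χ, hχ⟩ := exists_over H ψ
  have hχr := restrict_eq h H ψ hψ hb χ hχ
  have hφcl : Cfsg.IsClassFunction G (Cfsg.indFun H (ψ : H → ℂ)) := isClassFunction_indFun H _
  have hexp := classFunction_eq_sum hφcl
  -- on `H` the induced character is a multiple of `ψ`
  have hcoef : ∀ θ : Cfsg.IrrCharacter G,
      Cfsg.classInner (Cfsg.indFun H (ψ : H → ℂ)) θ ≠ 0 →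
      (fun y : H => (θ : G → ℂ) y) = (ψ : H → ℂ) := fun θ hθ => by
    rw [frobenius_reciprocity H _ (isClassFunction_irr θ)] at hθ
    exact restrict_eq h H ψ hψ hb θ (classInner_ne_zero_symm hθ)
  have hres : ∀ y : H, Cfsg.indFun H (ψ : H → ℂ) y =
      (∑ θ : Cfsg.IrrCharacter G, Cfsg.classInner (Cfsg.indFun H (ψ : H → ℂ)) θ) *
        (ψ : H → ℂ) y := fun y => by
    rw [congrFun hexp y, Finset.sum_apply, Finset.sum_mul]
    refine Finset.sum_congr rfl fun θ _ => ?_
    rw [Pi.smul_apply, smul_eq_mul]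
    rcases eq_or_ne (Cfsg.classInner (Cfsg.indFun H (ψ : H → ℂ)) θ) 0 with e | e
    · rw [e, zero_mul, zero_mul]
    · rw [← congrFun (hcoef θ e) y]
  have hsum : (∑ θ : Cfsg.IrrCharacter G, Cfsg.classInner (Cfsg.indFun H (ψ : H → ℂ)) θ) =
      (H.index : ℂ) := by
    have h1 := hres 1
    rw [OneMemClass.coe_one, indFun_one, hψ] at h1
    exact (mul_right_cancel₀ (Nat.cast_ne_zero.mpr (by omega)) h1).symm
  by_contra hne
  apply hx
  have hval : ∀ z : H, (ψ : H → ℂ) z = (χ : G → ℂ) z := fun z => (congrFun hχr z).symm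
  have hx2 := hres x
  rw [hsum, indFun_apply] at hx2
  have hterm : ∀ y : G, (if hy : y⁻¹ * (x : G) * y ∈ H then (ψ : H → ℂ) ⟨_, hy⟩ else 0) =
      if y⁻¹ * (x : G) * y ∈ H then (ψ : H → ℂ) x else 0 := fun y => by
    split_ifs with hy
    · rw [hval, hval]
      simpa using isClassFunction_irr χ (x : G) y⁻¹
    · rfl
  rw [Finset.sum_congr rfl fun y _ => hterm y, Finset.sum_ite, Finset.sum_const_zero, add_zero,
    Finset.sum_const, nsmul_eq_mul, ← mul_assoc] at hx2
  have hcardH : (Nat.card H : ℂ) ≠ 0 := subgroup_card_ne_zero H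
  have h2 := mul_right_cancel₀ hne hx2
  rw [inv_mul_eq_iff_eq_mul₀ hcardH, ← Nat.cast_mul] at h2
  have h3 : (Finset.univ.filter fun y : G => y⁻¹ * (x : G) * y ∈ H).card =
      (Finset.univ : Finset G).card := by
    rw [Finset.card_univ, ← Nat.card_eq_fintype_card, ← H.card_mul_index]
    exact_mod_cast h2
  have hall := Finset.eq_of_subset_of_card_le (Finset.filter_subset _ _) h3.ge
  intro y
  have := (Finset.ext_iff.mp hall y⁻¹).mpr (Finset.mem_univ _)
  simpa using (Finset.mem_filter.mp this).2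

/-- An irreducible character that vanishes off a subset needs a large subset. -/
theorem card_le_of_vanish {H : Type u} [Group H] [Finite H] (ψ : Cfsg.IrrCharacter H) {d : ℕ}
    (hψ : (ψ : H → ℂ) 1 = d) (L : Subgroup H)
    (hL : ∀ x : H, x ∉ L → (ψ : H → ℂ) x = 0) : Nat.card H ≤ d ^ 2 * Nat.card L := by
  classical
  have := Fintype.ofFinite H
  have hnorm := classInner_self_irr ψ
  rw [Cfsg.classInner, inv_mul_eq_one₀ natCard_ne_zero] at hnorm
  simp only [Complex.mul_conj] at hnorm
  rw [← Complex.ofReal_sum, ← Complex.ofReal_natCast, Complex.ofReal_inj] at hnorm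
  have hb : ∀ x : H, Complex.normSq ((ψ : H → ℂ) x) ≤ if x ∈ L then (d : ℝ) ^ 2 else 0 := by
    intro x
    split_ifs with hx
    · have h1 := norm_apply_le (isCharacter_irr ψ) x
      rw [hψ, Complex.norm_natCast] at h1
      rw [Complex.normSq_eq_norm_sq]
      exact pow_le_pow_left₀ (norm_nonneg _) h1 2
    · rw [hL x hx, map_zero]
  have h2 : (Nat.card H : ℝ) ≤ (d : ℝ) ^ 2 * Nat.card L := by
    rw [hnorm]
    refine (Finset.sum_le_sum fun x _ => hb x).trans (le_of_eq ?_)
    rw [Finset.sum_ite, Finset.sum_const_zero, add_zero, Finset.sum_const, nsmul_eq_mul,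
      mul_comm, Nat.card_eq_fintype_card, Fintype.card_subtype]
  exact_mod_cast h2

/-- A non-linear character which is fully ramified over `H` lowers the degrees in `H`. -/
theorem small_of_fullyRamified (h : Small (b + 1) G) (hb : 0 < b) (H : Subgroup G)
    (β : Cfsg.IrrCharacter G) {f : ℕ} (hf : (β : G → ℂ) 1 = f) (hf2 : 2 ≤ f)
    (hoff : ∀ g ∉ H, (β : G → ℂ) g = 0) (hon : ∀ g ∈ H, ‖(β : G → ℂ) g‖ = f) :
    Small b H ∧ H.index ≤ b ^ 2 := by
  classical
  have := Fintype.ofFinite G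
  have hval : ∀ g : G, (β : G → ℂ) g * conj ((β : G → ℂ) g) =
      if g ∈ H then (f : ℂ) ^ 2 else 0 := fun g => by
    split_ifs with hg
    · rw [Complex.mul_conj, Complex.normSq_eq_norm_sq, hon g hg]
      push_cast
      rfl
    · rw [hoff g hg, zero_mul]
  have hcard : (f : ℂ) ^ 2 * Nat.card H = Nat.card G := by
    have hn := classInner_self_irr β
    rw [Cfsg.classInner, inv_mul_eq_one₀ natCard_ne_zero, Finset.sum_congr rfl fun g _ => hval g,
      Finset.sum_ite, Finset.sum_const_zero, add_zero, Finset.sum_const, nsmul_eq_mul,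
      mul_comm] at hn
    rw [hn, Nat.card_eq_fintype_card (α := H), Fintype.card_subtype]
  have hindex : H.index = f ^ 2 := by
    have e : f ^ 2 * Nat.card H = H.index * Nat.card H := by
      rw [H.index_mul_card]
      exact_mod_cast hcard
    exact (Nat.eq_of_mul_eq_mul_right Nat.card_pos e).symm
  have hfb : f ≤ b := degree_le_of_irr h β.2 hf
  refine ⟨?_, hindex ▸ Nat.pow_le_pow_left hfb 2⟩
  by_contra hns
  have hH : Small (b + 1) H := h.subgroup H
  obtain ⟨ψ, hψ⟩ := exists_degree_eq hH hns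
  obtain ⟨χ, hχ⟩ := exists_over H ψ
  have hr := restrict_eq h H ψ hψ hb χ hχ
  have hirr : Cfsg.IsIrrCharacter G ((χ : G → ℂ) * (β : G → ℂ)) := by
    refine isIrrCharacter_of_classInner_self
      (isCharacter_mul (isCharacter_irr χ) (isCharacter_irr β)) ?_
    rw [Cfsg.classInner, inv_mul_eq_one₀ natCard_ne_zero, ← hcard]
    have hn := classInner_self_irr ψ
    rw [Cfsg.classInner, inv_mul_eq_one₀ natCard_ne_zero] at hn
    rw [hn, Finset.mul_sum]
    simp only [Pi.mul_apply, map_mul]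
    symm
    calc ∑ g : G, (χ : G → ℂ) g * (β : G → ℂ) g * (conj ((χ : G → ℂ) g) * conj ((β : G → ℂ) g))
        = ∑ g : G, if g ∈ H then (f : ℂ) ^ 2 * ((χ : G → ℂ) g * conj ((χ : G → ℂ) g)) else 0 := by
          refine Finset.sum_congr rfl fun g _ => ?_
          rw [show (χ : G → ℂ) g * (β : G → ℂ) g *
              (conj ((χ : G → ℂ) g) * conj ((β : G → ℂ) g)) =
              (χ : G → ℂ) g * conj ((χ : G → ℂ) g) *
              ((β : G → ℂ) g * conj ((β : G → ℂ) g)) by ring, hval g]
          split_ifs <;> ring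
      _ = ∑ x : H, (f : ℂ) ^ 2 * ((χ : G → ℂ) x * conj ((χ : G → ℂ) x)) := by
          rw [← Finset.sum_filter]
          exact Finset.sum_subtype (p := (· ∈ H)) _ (by simp)
            (fun g => (f : ℂ) ^ 2 * ((χ : G → ℂ) g * conj ((χ : G → ℂ) g)))
      _ = _ := Finset.sum_congr rfl fun x _ => by rw [← hr]
  have hχ1 : (χ : G → ℂ) 1 = b := by
    rw [← hψ, ← congrFun hr 1, OneMemClass.coe_one]
  have := degree_le_of_irr h hirr (d := b * f) (by
    rw [Pi.mul_apply, hχ1, hf, Nat.cast_mul])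
  nlinarith

/-- A nontrivial group has a nontrivial class of length at most `b ^ 2`. -/
theorem exists_small_class [Nontrivial G] (h : Small (b + 1) G) :
    ∃ y : G, y ≠ 1 ∧ (Subgroup.centralizer ({y} : Set G)).index ≤ b ^ 2 := by
  classical
  have := Fintype.ofFinite G
  have := Fintype.ofFinite (Cfsg.IrrCharacter G)
  by_contra hcon
  push Not at hcon
  set k := Nat.card (Cfsg.IrrCharacter G)
  set n := Nat.card G
  have hb1 : ∀ y : G, y ≠ 1 →
      (b ^ 2 + 1) * Nat.card (Subgroup.centralizer ({y} : Set G)) ≤ n := fun y hy => by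
    rw [show n = _ from (Subgroup.centralizer ({y} : Set G)).index_mul_card.symm]
    exact Nat.mul_le_mul_right _ (hcon y hy)
  have hsum : (b ^ 2 + 1) * (k * n) ≤ (b ^ 2 + 1) * n + (n - 1) * n := by
    rw [← Cfsg.Agent.Lib.DegreeBounds.Basic.sum_centralizer, Finset.mul_sum,
      ← Finset.add_sum_erase _ _ (Finset.mem_univ (1 : G))]
    refine Nat.add_le_add (Nat.mul_le_mul_left _ ?_) ?_
    · exact Subgroup.card_le_card_group _
    · refine (Finset.sum_le_card_nsmul _ _ n fun y hy => hb1 y (Finset.mem_erase.mp hy).1).trans ?_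
      rw [Finset.card_erase_of_mem (Finset.mem_univ _), Finset.card_univ, smul_eq_mul,
        ← Nat.card_eq_fintype_card]
  have hdeg : n ≤ 1 + (k - 1) * b ^ 2 := by
    rw [show n = Nat.card G from rfl, ← Cfsg.Agent.Lib.DegreeBounds.Basic.sum_charDegree_sq,
      ← Finset.add_sum_erase _ _ (Finset.mem_univ (oneChar G))]
    refine Nat.add_le_add ?_ ?_
    · have h1 := charDegree_irr (oneChar G)
      rw [oneChar_apply] at h1
      have h2 : Cfsg.charDegree (oneChar G : G → ℂ) = 1 := by exact_mod_cast h1.symm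
      rw [h2, one_pow]
    · refine (Finset.sum_le_card_nsmul _ _ (b ^ 2) fun χ _ =>
        Nat.pow_le_pow_left (degree_le h χ) 2).trans (le_of_eq ?_)
      rw [Finset.card_erase_of_mem (Finset.mem_univ _), Finset.card_univ, smul_eq_mul,
        ← Nat.card_eq_fintype_card]
  have hn : 2 ≤ n := Finite.one_lt_card
  have hk : (b ^ 2 + 1) * k ≤ b ^ 2 + 1 + (n - 1) :=
    Nat.le_of_mul_le_mul_right (by rw [mul_assoc, add_mul (b ^ 2 + 1) (n - 1) n]; exact hsum) (by omega : 0 < n)
  rcases Nat.eq_zero_or_pos k with hk0 | hk0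
  · rw [hk0] at hdeg
    omega
  obtain ⟨j, hj⟩ : ∃ j, k = j + 1 := ⟨k - 1, by omega⟩
  rw [hj] at hk hdeg
  rw [Nat.add_sub_cancel] at hdeg
  rcases Nat.eq_zero_or_pos j with hj0 | hj0
  · rw [hj0, zero_mul] at hdeg
    omega
  have e1 : (b ^ 2 + 1) * (j + 1) = j * b ^ 2 + j + (b ^ 2 + 1) := by ring
  omega

end Cfsg.Agent.Lib.IsaacsIndex.Basic
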