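import Cfsg.Agent.Lib.IsaacsIndex.Basic
import Cfsg.Agent.Lib.Characters.Kernel
import Cfsg.Agent.Lib.Clifford.Gallagher

/-!
# Degrees below a non-abelian quotient

If `G ⧸ K` is non-abelian then the degrees of `K` are at most half of the largest degree of `G`.
-/

set_option autoImplicit false
set_option linter.unusedSectionVars false

namespace Cfsg.Agent.Lib.IsaacsIndex.Half

open Cfsg.Agent.Lib.Characters.Basic Cfsg.Agent.Lib.Characters.Complete
open Cfsg.Agent.Lib.Induced.Basic Cfsg.Agent.Lib.Induced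
open Cfsg.Agent.Lib.Clifford.Basic Cfsg.Agent.Lib.SmallDegrees.Basic
open Cfsg.Agent.Lib.DegreeBounds.Basic (charDegree_irr charDegree_pos)
open scoped ComplexConjugate

universe u

variable {G : Type u} [Group G] [Finite G] {b : ℕ}

/-- A non-abelian quotient gives a non-linear character trivial on `K`. -/
theorem exists_nonlinear (K : Subgroup G) [K.Normal] (hK : ¬ commutator G ≤ K) :
    ∃ β : Cfsg.IrrCharacter G, 2 ≤ Cfsg.charDegree (β : G → ℂ) ∧
      ∀ k ∈ K, (β : G → ℂ) k = (β : G → ℂ) 1 := by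
  by_contra hcon
  push Not at hcon
  have hlin : ∀ φ : Cfsg.IrrCharacter (G ⧸ K), Cfsg.charDegree (φ : G ⧸ K → ℂ) = 1 := by
    intro φ
    set β : Cfsg.IrrCharacter G :=
      ⟨_, isIrrCharacter_comp (QuotientGroup.mk' K) (QuotientGroup.mk'_surjective K) φ.2⟩
    have hd : Cfsg.charDegree (β : G → ℂ) = Cfsg.charDegree (φ : G ⧸ K → ℂ) := by
      have h1 := charDegree_irr β
      have h2 := charDegree_irr φ
      have h3 : (β : G → ℂ) 1 = (φ : G ⧸ K → ℂ) 1 := by simp [β]
      rw [h1, h2] at h3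
      exact_mod_cast h3
    by_contra hne
    have hpos := charDegree_pos φ
    obtain ⟨k, hk, hk'⟩ := hcon β (by omega)
    refine hk' ?_
    show (φ : G ⧸ K → ℂ) (QuotientGroup.mk' K k) = (φ : G ⧸ K → ℂ) (QuotientGroup.mk' K 1)
    rw [map_one, QuotientGroup.mk'_apply, (QuotientGroup.eq_one_iff k).mpr hk]
  refine hK ?_
  rw [commutator_def, Subgroup.commutator_le]
  intro x _ y _
  rw [← QuotientGroup.eq_one_iff, ← QuotientGroup.mk'_apply, map_commutatorElement,
    commutatorElement_eq_one_iff_mul_comm]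
  exact comm_of_degree_one hlin _ _

/-- The degrees of `K` are at most half of the bound. -/
theorem small_half (h : Small (b + 1) G) (K : Subgroup G) [K.Normal] (hK : ¬ commutator G ≤ K) :
    Small (b / 2 + 1) K := by
  classical
  have := Fintype.ofFinite G
  have := Fintype.ofFinite K
  intro η
  by_contra hlt
  push Not at hlt
  obtain ⟨χ, hχ⟩ := exists_over K η
  obtain ⟨m, hm⟩ := exists_classInner_nat
    (χ := fun x : K => (χ : G → ℂ) x) (isCharacter_comp K.subtype (isCharacter_irr χ))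
    (isCharacter_irr η)
  have hdeg := clifford_degree K χ.2 η hχ
  rw [hm, charDegree_irr χ, charDegree_irr η] at hdeg
  have hnat : Cfsg.charDegree (χ : G → ℂ) =
      m * (inertia K (η : K → ℂ)).index * Cfsg.charDegree (η : K → ℂ) := by exact_mod_cast hdeg
  set t := (inertia K (η : K → ℂ)).index
  have hle := Basic.degree_le h χ
  have hmt : m * t = 1 := by
    have hm0 : m ≠ 0 := fun e => hχ (by rw [hm, e, Nat.cast_zero])
    have ht0 : t ≠ 0 := Subgroup.index_ne_zero_of_finite
    have := Nat.mul_ne_zero hm0 ht0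
    by_contra hne
    have : 2 * Cfsg.charDegree (η : K → ℂ) ≤ m * t * Cfsg.charDegree (η : K → ℂ) :=
      Nat.mul_le_mul_right _ (by omega)
    omega
  obtain ⟨hm1, ht1⟩ := mul_eq_one.mp hmt
  have hinv : ∀ g, conjC K g η = (η : K → ℂ) := fun g => by
    have htop := Subgroup.index_eq_one.mp ht1
    exact (mem_inertia K).mp (htop ▸ Subgroup.mem_top g)
  have hres := restrict_eq_smul K χ.2 η hχ hinv
  rw [hm, hm1, Nat.cast_one, one_smul] at hres
  obtain ⟨β, hβ2, hβK⟩ := exists_nonlinear K hK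
  have h1η : ((fun _ : K => (1 : ℂ)) * (η : K → ℂ)) = (η : K → ℂ) := funext fun x => one_mul _
  have hover : Cfsg.classInner (Cfsg.indFun K (fun _ : K => (1 : ℂ))) β ≠ 0 := by
    rw [frobenius_reciprocity K _ (isClassFunction_irr β), Cfsg.classInner,
      Finset.sum_congr rfl fun (x : K) _ => (by rw [hβK x x.2] :
        (1 : ℂ) * conj ((β : G → ℂ) x) = 1 * conj ((β : G → ℂ) 1)),
      one_mul, Finset.sum_const, Finset.card_univ, nsmul_eq_mul, Fintype.card_eq_nat_card,
      ← mul_assoc, inv_mul_cancel₀ natCard_ne_zero, one_mul]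
    exact (map_ne_zero _).mpr (apply_one_ne_zero β)
  obtain ⟨hirr, -⟩ := (Clifford.Gallagher.gallagher K (fun _ : K => (1 : ℂ)) (η : K → ℂ)
    (oneChar K).2 (fun g => rfl) hinv (by rw [h1η]; exact η.2) χ.2
    (fun x => congrFun hres x)).1 β hover
  have := Basic.degree_le_of_irr h hirr (d := Cfsg.charDegree (β : G → ℂ) *
    Cfsg.charDegree (η : K → ℂ)) (by
      rw [Pi.mul_apply, charDegree_irr β, Nat.cast_mul, ← charDegree_irr η, ← congrFun hres 1,
        OneMemClass.coe_one])
  have : 2 * Cfsg.charDegree (η : K → ℂ) ≤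
      Cfsg.charDegree (β : G → ℂ) * Cfsg.charDegree (η : K → ℂ) := Nat.mul_le_mul_right _ hβ2
  omega

end Cfsg.Agent.Lib.IsaacsIndex.Half
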