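import Cfsg.Agent.Lib.IsaacsIndex.Basic

/-!
# Groups all of whose nontrivial normal subgroups contain the derived group
-/

set_option autoImplicit false
set_option linter.unusedSectionVars false

namespace Cfsg.Agent.Lib.IsaacsIndex.Mono

open scoped commutatorElement

universe u

variable {S : Type u} [Group S]

/-- Every nontrivial normal subgroup contains the derived group. -/
def Mono (S : Type u) [Group S] : Prop :=
  ∀ L : Subgroup S, L.Normal → L ≠ ⊥ → commutator S ≤ L

theorem comm_mem (x y : S) : ⁅x, y⁆ ∈ commutator S := by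
  rw [commutator_def]
  exact Subgroup.commutator_mem_commutator (Subgroup.mem_top x) (Subgroup.mem_top y)

/-- The quotient at a maximal normal subgroup with non-abelian quotient. -/
theorem exists_mono [Finite S] (hna : commutator S ≠ ⊥) :
    ∃ (K : Subgroup S) (_ : K.Normal), ¬ commutator S ≤ K ∧ Mono (S ⧸ K) := by
  obtain ⟨K, hK⟩ := (Set.toFinite {K : Subgroup S | K.Normal ∧ ¬ commutator S ≤ K}).exists_maximal
    ⟨⊥, inferInstance, fun h => hna (le_bot_iff.mp h)⟩
  haveI := hK.1.1
  refine ⟨K, hK.1.1, hK.1.2, fun L hL hne => ?_⟩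
  by_contra hcon
  have hsurj := QuotientGroup.mk'_surjective K
  have hle : K ≤ L.comap (QuotientGroup.mk' K) :=
    (QuotientGroup.ker_mk' K).ge.trans (MonoidHom.ker_le_comap _ L)
  have hmap : (commutator S).map (QuotientGroup.mk' K) = commutator (S ⧸ K) :=
    (Subgroup.map_commutator _ _ _).trans (by rw [Subgroup.map_top_of_surjective _ hsurj]; rfl)
  have hnot : ¬ commutator S ≤ L.comap (QuotientGroup.mk' K) := fun h => hcon
    (hmap.ge.trans (Subgroup.map_le_iff_le_comap.mpr h))
  refine hne ?_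
  rw [← Subgroup.map_comap_eq_self_of_surjective hsurj L, eq_bot_iff]
  exact (Subgroup.map_mono (hK.2 ⟨hL.comap _, hnot⟩ hle)).trans (by rw [QuotientGroup.map_mk'_self])

variable [Finite S]

theorem commutator_eq_bot_iff_comm : commutator S = ⊥ ↔ ∀ a b : S, a * b = b * a := by
  refine ⟨fun h a b => ?_, fun h => ?_⟩
  · rw [← commutatorElement_eq_one_iff_mul_comm, ← Subgroup.mem_bot, ← h]
    exact comm_mem a b
  · rw [eq_bot_iff, commutator_def, Subgroup.commutator_le]
    intro a _ b _
    rw [Subgroup.mem_bot, commutatorElement_eq_one_iff_mul_comm]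
    exact h a b

section Abelian

variable (hm : Mono S) (hZ : Subgroup.center S = ⊥)
  (hab : ∀ a ∈ commutator S, ∀ b ∈ commutator S, a * b = b * a) (hna : commutator S ≠ ⊥)

include hm hZ hab hna

/-- An element not centralising the derived group has no fixed point on it. -/
theorem fixed_eq_one_of_not_centralizer {g : S}
    (hg : g ∉ Subgroup.centralizer (commutator S : Set S)) {m : S} (hmem : m ∈ commutator S)
    (hfix : g * m = m * g) : m = 1 := by
  set F : Subgroup S := commutator S ⊓ Subgroup.centralizer ({g} : Set S) with hF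
  have hFn : F.Normal := by
    refine ⟨fun f hf x => ?_⟩
    obtain ⟨hfM, hfc⟩ := Subgroup.mem_inf.mp hf
    rw [Subgroup.mem_centralizer_singleton_iff] at hfc
    have hconj : x * f * x⁻¹ ∈ commutator S := (inferInstance : (commutator S).Normal).conj_mem f hfM x
    refine Subgroup.mem_inf.mpr ⟨hconj, ?_⟩
    rw [Subgroup.mem_centralizer_singleton_iff]
    have hc := hab _ (comm_mem x⁻¹ g) _ hfM
    -- `x⁻¹ g x = ⁅x⁻¹, g⁆ g`
    have he : x⁻¹ * g * x = ⁅x⁻¹, g⁆ * g := by rw [commutatorElement_def]; group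
    have hcomm : (x⁻¹ * g * x) * f = f * (x⁻¹ * g * x) := by
      rw [he, mul_assoc, ← hfc, ← mul_assoc, hc, mul_assoc]
    calc x * f * x⁻¹ * g = x * (f * (x⁻¹ * g * x)) * x⁻¹ := by group
      _ = x * ((x⁻¹ * g * x) * f) * x⁻¹ := by rw [hcomm]
      _ = g * (x * f * x⁻¹) := by group
  by_contra hne
  have hF0 : F ≠ ⊥ := fun e => hne (by
    rw [← Subgroup.mem_bot, ← e]
    exact Subgroup.mem_inf.mpr ⟨hmem, Subgroup.mem_centralizer_singleton_iff.mpr hfix.symm⟩)
  refine hg (Subgroup.mem_centralizer_iff.mpr fun a ha => ?_)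
  exact Subgroup.mem_centralizer_singleton_iff.mp
    (Subgroup.mem_inf.mp (hm F hFn hF0 ha)).2

theorem commutator_surjective {g : S} (hg : g ∉ Subgroup.centralizer (commutator S : Set S))
    {c : S} (hc : c ∈ commutator S) : ∃ m ∈ commutator S, ⁅g, m⁆ = c := by
  set f : commutator S → commutator S := fun m => ⟨⁅g, (m : S)⁆, comm_mem g m⟩
  have hinj : Function.Injective f := by
    intro m m' h
    have h' : g * (m : S) * g⁻¹ * (m : S)⁻¹ = g * (m' : S) * g⁻¹ * (m' : S)⁻¹ := by
      rw [← commutatorElement_def, ← commutatorElement_def]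
      exact congrArg Subtype.val h
    have hd : (m' : S)⁻¹ * m ∈ commutator S := mul_mem (inv_mem m'.2) m.2
    have hc2 : g * m' * g⁻¹ ∈ commutator S := (inferInstance : (commutator S).Normal).conj_mem _ m'.2 g
    have h2 : g * ((m' : S)⁻¹ * m) * g⁻¹ = (m' : S)⁻¹ * m :=
      calc g * ((m' : S)⁻¹ * m) * g⁻¹ = (g * m' * g⁻¹)⁻¹ * (g * m * g⁻¹ * (m : S)⁻¹) * m := by group
        _ = (g * m' * g⁻¹)⁻¹ * (g * m' * g⁻¹ * (m' : S)⁻¹) * m := by rw [h']
        _ = (m' : S)⁻¹ * m := by group
    refine Subtype.ext (inv_mul_eq_one.mp ?_).symm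
    refine fixed_eq_one_of_not_centralizer hm hZ hab hna hg hd ?_
    rw [← mul_inv_eq_iff_eq_mul]
    exact h2
  obtain ⟨m, hm'⟩ := (Finite.injective_iff_surjective.mp hinj) ⟨c, hc⟩
  exact ⟨m, m.2, congrArg Subtype.val hm'⟩

/-- The derived group is self-centralising. -/
theorem mem_of_mem_centralizer {d : S} (hd : d ∈ Subgroup.centralizer (commutator S : Set S)) :
    d ∈ commutator S := by
  obtain ⟨a, ha, ha1⟩ := (Subgroup.ne_bot_iff_exists_ne_one.mp hna)
    |> fun ⟨a, ha⟩ => (⟨a, a.2, fun e => ha (Subtype.ext e)⟩ : ∃ a : S, a ∈ commutator S ∧ a ≠ 1)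
  obtain ⟨s, hs⟩ : ∃ s : S, s ∉ Subgroup.centralizer (commutator S : Set S) := by
    by_contra hcon
    push Not at hcon
    refine ha1 ?_
    rw [← Subgroup.mem_bot, ← hZ, Subgroup.mem_center_iff]
    exact fun g => (Subgroup.mem_centralizer_iff.mp (hcon g) a ha).symm
  obtain ⟨m, hmM, hmeq⟩ := commutator_surjective hm hZ hab hna hs (comm_mem s d)
  set e := m⁻¹ * d with he
  have hmC : m ∈ Subgroup.centralizer (commutator S : Set S) :=
    Subgroup.mem_centralizer_iff.mpr fun y hy => hab y hy m hmM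
  have heC : e ∈ Subgroup.centralizer (commutator S : Set S) := mul_mem (inv_mem hmC) hd
  have hes : s * e = e * s := by
    have h1 : s * d * s⁻¹ = ⁅s, d⁆ * d := by rw [commutatorElement_def]; group
    have h2 : s * m * s⁻¹ = ⁅s, m⁆ * m := by rw [commutatorElement_def]; group
    rw [← mul_inv_eq_iff_eq_mul]
    calc s * e * s⁻¹ = (s * m * s⁻¹)⁻¹ * (s * d * s⁻¹) := by rw [he]; group
      _ = e := by rw [h1, h2, hmeq, he]; group
  have hcen : e ∈ Subgroup.center S := by
    rw [Subgroup.mem_center_iff]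
    intro x
    rw [← commutatorElement_eq_one_iff_mul_comm]
    refine fixed_eq_one_of_not_centralizer hm hZ hab hna hs (comm_mem x e) ?_
    rw [← mul_inv_eq_iff_eq_mul]
    have hz : s * x * s⁻¹ * x⁻¹ ∈ commutator S := by
      rw [← commutatorElement_def]; exact comm_mem s x
    have hw : x * e * x⁻¹ ∈ Subgroup.centralizer (commutator S : Set S) :=
      (inferInstance : (Subgroup.centralizer (commutator S : Set S)).Normal).conj_mem e heC x
    have hsx : s * e * s⁻¹ = e := by rw [hes]; group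
    calc s * ⁅x, e⁆ * s⁻¹
        = (s * x * s⁻¹ * x⁻¹) * (x * (s * e * s⁻¹) * x⁻¹) * (s * x * s⁻¹ * x⁻¹)⁻¹ *
            (s * e * s⁻¹)⁻¹ := by rw [commutatorElement_def]; group
      _ = (x * e * x⁻¹) * e⁻¹ := by
          rw [hsx, Subgroup.mem_centralizer_iff.mp hw _ hz, mul_inv_cancel_right]
      _ = ⁅x, e⁆ := by rw [commutatorElement_def]
  rw [hZ, Subgroup.mem_bot, he, inv_mul_eq_one] at hcen
  exact hcen ▸ hmM

theorem fixed_eq_one {g : S} (hg : g ∉ commutator S) {m : S} (hmem : m ∈ commutator S)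
    (hfix : g * m = m * g) : m = 1 :=
  fixed_eq_one_of_not_centralizer hm hZ hab hna
    (fun h => hg (mem_of_mem_centralizer hm hZ hab hna h)) hmem hfix

theorem exists_commutator {g : S} (hg : g ∉ commutator S) {c : S} (hc : c ∈ commutator S) :
    ∃ m ∈ commutator S, ⁅g, m⁆ = c :=
  commutator_surjective hm hZ hab hna
    (fun h => hg (mem_of_mem_centralizer hm hZ hab hna h)) hc

end Abelian

end Cfsg.Agent.Lib.IsaacsIndex.Mono
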