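import Cfsg.Agent.Lib.IsaacsIndex.Basic
import Cfsg.Agent.Lib.Characters.Degree
import Cfsg.Agent.Lib.Characters.Kernel

/-!
# A nontrivial perfect group has a character of degree at least five
-/

set_option autoImplicit false
set_option linter.unusedSectionVars false

namespace Cfsg.Agent.Lib.IsaacsIndex.Perfect

open Cfsg.Agent.Lib.Characters.Basic Cfsg.Agent.Lib.Characters.Complete
open Cfsg.Agent.Lib.Induced.Basic Cfsg.Agent.Lib.SmallDegrees.Basic
open Cfsg.Agent.Lib.DegreeBounds.Basic (charDegree_irr)

universe u

variable {T : Type u} [Group T]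

/-- A homomorphism from a perfect group to a commutative group is trivial. -/
theorem hom_trivial {A : Type*} [CommGroup A] (hp : commutator T = ⊤) (f : T →* A) (x : T) :
    f x = 1 :=
  (Abelianization.commutator_subset_ker f) (hp ▸ Subgroup.mem_top x)

/-- A perfect simple group is not of degrees at most four. -/
theorem false_of_simple [Finite T] [IsSimpleGroup T] (hp : commutator T = ⊤)
    (h : Small 5 T) : False := by
  classical
  have := Fintype.ofFinite (Cfsg.IrrCharacter T)
  have := Fintype.ofFinite T
  have hdeg : ∀ χ : Cfsg.IrrCharacter T, χ ≠ oneChar T →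
      2 ≤ Cfsg.charDegree (χ : T → ℂ) ∧ Cfsg.charDegree (χ : T → ℂ) ≤ 4 := by
    intro χ hχ
    have hpos := DegreeBounds.Basic.charDegree_pos χ
    have hlt := h χ
    refine ⟨?_, by omega⟩
    by_contra hd
    have h1 : (χ : T → ℂ) 1 = 1 := by
      rw [charDegree_irr χ, show Cfsg.charDegree (χ : T → ℂ) = 1 by omega, Nat.cast_one]
    refine hχ (Subtype.ext (funext fun g => ?_))
    rw [oneChar_apply, ← Characters.Linear.degOneHom_apply (isCharacter_irr χ) h1,
      hom_trivial hp, Units.val_one]
  have hT : 2 ≤ Nat.card T := Finite.one_lt_card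
  have hone : Cfsg.charDegree (oneChar T : T → ℂ) = 1 := by
    have h1 := charDegree_irr (oneChar T)
    rw [oneChar_apply] at h1
    exact_mod_cast h1.symm
  rcases Nat.even_or_odd (Nat.card T) with heven | hodd
  · obtain ⟨t, ht⟩ := exists_prime_orderOf_dvd_card' (G := T) 2 heven.two_dvd
    have ht1 : t ≠ 1 := fun e => by simp [e] at ht
    have hval : ∀ χ : Cfsg.IrrCharacter T, χ ≠ oneChar T →
        ∃ a : ℕ, (χ : T → ℂ) 1 * (χ : T → ℂ) t = -((3 * a : ℕ) : ℂ) := by
      intro χ hχ
      obtain ⟨hd2, hd4⟩ := hdeg χ hχ
      obtain ⟨n, ρ, hρ, hρc⟩ := exists_rep χ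
      obtain ⟨ι, hι, B, ζ, hB, hcard, hchar⟩ :=
        Characters.Diag.exists_eigenbasis ρ t two_ne_zero (ht ▸ pow_orderOf_eq_one t)
      have hfr : Cfsg.charDegree (χ : T → ℂ) = Fintype.card ι := by
        have h1 := charDegree_irr χ
        rw [← hρc, Representation.char_one, ← hcard] at h1
        rw [← hρc]
        exact_mod_cast h1.symm
      rw [hfr] at hd2 hd4
      set s : Finset ι := Finset.univ.filter fun i => ζ i = -1
      have hζ : ∀ i, ζ i = if i ∈ s then -1 else 1 := fun i => by
        rcases sq_eq_one_iff.mp (hB i).2 with e | e <;>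
          · simp only [s, Finset.mem_filter, Finset.mem_univ, true_and, e]
            norm_num
      have hprod : ∏ i, ζ i = 1 := by
        set det : T →* ℂˣ := ((LinearMap.det (A := ℂ) (M := Fin n → ℂ)).comp ρ).toHomUnits
        have h1 : LinearMap.det (ρ t) = 1 := by
          have := congrArg Units.val (hom_trivial hp det t)
          simpa [det] using this
        have hM : LinearMap.toMatrix B B (ρ t) = Matrix.diagonal ζ := by
          ext i j
          rw [LinearMap.toMatrix_apply, (hB j).1, map_smul, B.repr_self, Finsupp.smul_single,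
            smul_eq_mul, mul_one, Finsupp.single_apply]
          rcases eq_or_ne j i with rfl | hne
          · simp
          · simp [hne, Ne.symm hne]
        rw [← Matrix.det_diagonal, ← hM, LinearMap.det_toMatrix, h1]
      have hne : ρ.character t ≠ (Module.finrank ℂ (Fin n → ℂ) : ℂ) := by
        intro e
        have hker := Characters.Kernel.charKer_eq_bot_of_simple (isCharacter_irr χ) (g := t)
        by_cases hall : ∀ g : T, (χ : T → ℂ) g = (χ : T → ℂ) 1
        · refine hχ ?_
          by_contra
          have := classInner_irr_of_ne hχ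
          rw [Cfsg.classInner, Finset.sum_congr rfl fun g _ => (by
            rw [hall g, oneChar_apply, map_one, mul_one] :
            (χ : T → ℂ) g * (starRingEnd ℂ) ((oneChar T : T → ℂ) g) = (χ : T → ℂ) 1),
            Finset.sum_const, Finset.card_univ, nsmul_eq_mul, Fintype.card_eq_nat_card,
            ← mul_assoc, inv_mul_cancel₀ natCard_ne_zero, one_mul] at this
          exact apply_one_ne_zero χ this
        · push Not at hall
          obtain ⟨g, hg⟩ := hall
          have hbot := Characters.Kernel.charKer_eq_bot_of_simple (isCharacter_irr χ) hg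
          have : t ∈ Characters.Kernel.charKer (isCharacter_irr χ) := by
            rw [Characters.Kernel.mem_charKer, ← hρc, e, Representation.char_one]
          rw [hbot, Subgroup.mem_bot] at this
          exact ht1 this
      have hs0 : s.card ≠ 0 := fun e => hne (by
        rw [hchar, ← hcard, Finset.sum_congr rfl fun i _ => hζ i, Finset.card_eq_zero.mp e]
        simp)
      have hscard : s.card ≤ Fintype.card ι := Finset.card_le_univ s
      have hseven : Even s.card := by
        rw [Finset.prod_congr rfl fun i _ => hζ i, Finset.prod_ite, Finset.prod_const_one,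
          mul_one, Finset.prod_const, Finset.filter_mem_eq_inter, Finset.univ_inter] at hprod
        exact (neg_one_pow_eq_one_iff_even (by norm_num)).mp hprod
      have hsfull : s.card ≠ Fintype.card ι := fun e => by
        have hall : ∀ i, ζ i = -1 := fun i => by
          rw [hζ, if_pos]
          rw [(Finset.card_eq_iff_eq_univ s).mp e]
          exact Finset.mem_univ i
        have hρt : ρ t = (-1 : ℂ) • (LinearMap.id : (Fin n → ℂ) →ₗ[ℂ] _) :=
          B.ext fun i => by rw [(hB i).1, hall i]; rfl
        have hcen : t ∈ Subgroup.center T := by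
          rw [Subgroup.mem_center_iff]
          intro g
          by_contra hgt
          have hgt' : g * t * (t * g)⁻¹ ≠ 1 := fun e' => hgt (mul_inv_eq_one.mp e')
          have hker : g * t * (t * g)⁻¹ ∈ Characters.Kernel.charKer (isCharacter_irr χ) := by
            rw [Characters.Kernel.mem_charKer, ← hρc, Representation.char_one, Characters.Diag.char_eq_finrank_iff]
            have hcomm : ρ (g * t) = ρ (t * g) := by
              rw [map_mul, map_mul, hρt, ← Module.End.one_eq_id, mul_smul_comm, smul_mul_assoc,
                mul_one, one_mul]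
            rw [map_mul, hcomm, ← map_mul, mul_inv_cancel, map_one, Module.End.one_eq_id]
          rcases (Characters.Kernel.charKer_normal (isCharacter_irr χ)).eq_bot_or_eq_top with e' | e'
          · rw [e', Subgroup.mem_bot] at hker
            exact hgt' hker
          · refine hne ?_
            have : t ∈ Characters.Kernel.charKer (isCharacter_irr χ) := e' ▸ Subgroup.mem_top t
            rw [Characters.Kernel.mem_charKer, ← hρc, Representation.char_one] at this
            exact this
        rcases (inferInstance : (Subgroup.center T).Normal).eq_bot_or_eq_top with e' | e'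
        · rw [e', Subgroup.mem_bot] at hcen
          exact ht1 hcen
        · have : commutator T = ⊥ := by
            rw [commutator_def, Subgroup.commutator_eq_bot_iff_le_centralizer]
            intro x _
            rw [Subgroup.mem_centralizer_iff]
            intro y _
            exact (Subgroup.mem_center_iff.mp (e' ▸ Subgroup.mem_top x : x ∈ Subgroup.center T) y)
          rw [hp] at this
          exact top_ne_bot this
      have hs2 : s.card = 2 := by
        obtain ⟨r, hr⟩ := hseven
        omega
      have hsum : (χ : T → ℂ) t = (Fintype.card ι : ℂ) - 4 := by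
        rw [← hρc, hchar, Finset.sum_congr rfl fun i _ => hζ i, Finset.sum_ite,
          Finset.filter_mem_eq_inter, Finset.univ_inter, Finset.sum_const, Finset.sum_const,
          hs2, Finset.filter_not, Finset.filter_mem_eq_inter, Finset.univ_inter,
          Finset.card_univ_sdiff, hs2, nsmul_eq_mul, nsmul_eq_mul,
          Nat.cast_sub (show 2 ≤ Fintype.card ι by omega)]
        push_cast
        ring
      rw [charDegree_irr χ, hfr, hsum]
      rcases (show Fintype.card ι = 3 ∨ Fintype.card ι = 4 by omega) with e | e <;> rw [e]
      · exact ⟨1, by norm_num⟩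
      · exact ⟨0, by norm_num⟩
    choose a ha using hval
    have hsum := sum_degree_mul_apply t
    rw [if_neg ht1, ← Finset.add_sum_erase _ _ (Finset.mem_univ (oneChar T)), oneChar_apply,
      oneChar_apply, one_mul, ← Finset.sum_attach,
      Finset.sum_congr rfl fun x _ => ha x.1 (Finset.ne_of_mem_erase x.2),
      Finset.sum_neg_distrib, ← Nat.cast_sum, ← Finset.mul_sum, add_neg_eq_zero] at hsum
    have : 1 = 3 * ∑ x ∈ (Finset.univ.erase (oneChar T)).attach,
        a x.1 (Finset.ne_of_mem_erase x.2) := by exact_mod_cast hsum
    omega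
  · have h3 : ∀ χ : Cfsg.IrrCharacter T, χ ≠ oneChar T →
        Cfsg.charDegree (χ : T → ℂ) = 3 := by
      intro χ hχ
      obtain ⟨hd2, hd4⟩ := hdeg χ hχ
      have := hodd.of_dvd_nat (DegreeBounds.Basic.charDegree_dvd χ)
      obtain ⟨r, hr⟩ := this
      omega
    have hsq := DegreeBounds.Basic.sum_charDegree_sq (G := T)
    rw [← Finset.add_sum_erase _ _ (Finset.mem_univ (oneChar T)), hone,
      Finset.sum_congr rfl fun χ hχ => by rw [h3 χ (Finset.ne_of_mem_erase hχ)],
      Finset.sum_const, smul_eq_mul] at hsq
    rcases Finset.eq_empty_or_nonempty (Finset.univ.erase (oneChar T)) with e | ⟨χ, hχ⟩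
    · rw [e, Finset.card_empty] at hsq
      omega
    · have := DegreeBounds.Basic.charDegree_dvd χ
      rw [h3 χ (Finset.ne_of_mem_erase hχ)] at this
      omega

/-- A nontrivial perfect group has a degree of five or more. -/
theorem five_le [Finite T] [Nontrivial T] (hp : commutator T = ⊤) {b : ℕ} (h : Small (b + 1) T) :
    5 ≤ b := by
  classical
  by_contra hb
  obtain ⟨N, hN⟩ := (Set.toFinite {N : Subgroup T | N.Normal ∧ N ≠ ⊤}).exists_maximal
    ⟨⊥, inferInstance, bot_ne_top⟩
  haveI := hN.1.1
  have hp' : commutator (T ⧸ N) = ⊤ := by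
    rw [commutator_def, ← Subgroup.map_top_of_surjective _ (QuotientGroup.mk'_surjective N),
      ← Subgroup.map_commutator, ← commutator_def, hp]
  haveI : Nontrivial (T ⧸ N) := by
    rw [QuotientGroup.nontrivial_iff]
    exact hN.1.2
  haveI : IsSimpleGroup (T ⧸ N) := by
    refine { eq_bot_or_eq_top_of_normal := fun L hL => ?_ }
    by_cases htop : L.comap (QuotientGroup.mk' N) = ⊤
    · right
      rw [← Subgroup.map_comap_eq_self_of_surjective (QuotientGroup.mk'_surjective N) L, htop,
        Subgroup.map_top_of_surjective _ (QuotientGroup.mk'_surjective N)]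
    · left
      have hle : N ≤ L.comap (QuotientGroup.mk' N) :=
        (QuotientGroup.ker_mk' N).ge.trans (MonoidHom.ker_le_comap _ L)
      have heq : L.comap (QuotientGroup.mk' N) ≤ N :=
        hN.2 ⟨hL.comap _, htop⟩ hle
      rw [← Subgroup.map_comap_eq_self_of_surjective (QuotientGroup.mk'_surjective N) L,
        eq_bot_iff]
      refine (Subgroup.map_mono heq).trans ?_
      rw [QuotientGroup.map_mk'_self]
  exact false_of_simple hp' (Basic.small_mono (h.quotient N) (by omega))

end Cfsg.Agent.Lib.IsaacsIndex.Perfect
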