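import Cfsg.Agent.Lib.IsaacsIndex.Basic
import Cfsg.Agent.Lib.IsaacsIndex.Mono
import Cfsg.Agent.Lib.IsaacsIndex.Perfect
import Cfsg.Agent.Lib.Characters.Kernel
import Cfsg.Agent.Lib.Clifford.Rep
import Mathlib.GroupTheory.FixedPointFree

/-!
# One step of the index bound
-/

set_option autoImplicit false
set_option linter.unusedSectionVars false

namespace Cfsg.Agent.Lib.IsaacsIndex.Step

open Cfsg.Agent.Lib.Characters.Basic Cfsg.Agent.Lib.Characters.Complete
open Cfsg.Agent.Lib.Induced.Basic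
open Cfsg.Agent.Lib.Clifford.Basic Cfsg.Agent.Lib.SmallDegrees.Basic
open Cfsg.Agent.Lib.DegreeBounds.Basic (charDegree_irr charDegree_pos)
open Cfsg.Agent.Lib.IsaacsIndex.Mono
open scoped ComplexConjugate commutatorElement

universe u

variable {G : Type u} [Group G] [Finite G] {b : ℕ} (K : Subgroup G) [K.Normal]

/-- The case of a quotient with a nontrivial centre. -/
theorem central_case (h : Small (b + 1) G) (hb : 0 < b) (hm : Mono (G ⧸ K))
    (hna : commutator (G ⧸ K) ≠ ⊥) (hZ : Subgroup.center (G ⧸ K) ≠ ⊥) :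
    ∃ H : Subgroup G, Small b H ∧ H.index ≤ b ^ 2 := by
  classical
  have hSZ : commutator (G ⧸ K) ≤ Subgroup.center (G ⧸ K) := hm _ inferInstance hZ
  obtain ⟨z, hz, hz1⟩ : ∃ z ∈ commutator (G ⧸ K), z ≠ 1 := by
    by_contra hcon
    push Not at hcon
    exact hna (eq_bot_iff.mpr fun z hz => Subgroup.mem_bot.mpr (hcon z hz))
  obtain ⟨φ, hφ⟩ := Characters.Kernel.exists_apply_ne_degree hz1
  have hker : Characters.Kernel.charKer (isCharacter_irr φ) = ⊥ := by
    by_contra hne
    exact hφ ((Characters.Kernel.mem_charKer _ z).mp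
      (hm _ (Characters.Kernel.charKer_normal _) hne hz))
  obtain ⟨n, ρ, hρ, hρc⟩ := exists_rep φ
  obtain ⟨f, hf⟩ := exists_degree (isCharacter_irr φ)
  have hfn : Module.finrank ℂ (Fin n → ℂ) = f := by
    rw [← hρc, Representation.char_one] at hf
    exact_mod_cast hf
  have hf2 : 2 ≤ f := by
    by_contra hlt
    have hne := apply_one_ne_zero φ
    have hf1 : f = 1 := by
      have : f ≠ 0 := fun e => hne (by rw [hf, e, Nat.cast_zero])
      omega
    have h1 : (φ : G ⧸ K → ℂ) 1 = 1 := by rw [hf, hf1, Nat.cast_one]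
    refine hφ ?_
    have hzker := Abelianization.commutator_subset_ker
      (Characters.Linear.degOneHom (isCharacter_irr φ) h1) hz
    rw [MonoidHom.mem_ker] at hzker
    rw [h1, ← Characters.Linear.degOneHom_apply (isCharacter_irr φ) h1, hzker, Units.val_one]
  have hscal : ∀ c ∈ Subgroup.center (G ⧸ K), ∃ w : ℂ, ρ c = w • (1 : Module.End ℂ (Fin n → ℂ)) :=
    fun c hc => Clifford.Rep.schur ρ (ρ c) fun g => by
      rw [← map_mul, ← map_mul, Subgroup.mem_center_iff.mp hc g]
  have hon : ∀ c ∈ Subgroup.center (G ⧸ K), ‖(φ : G ⧸ K → ℂ) c‖ = f := fun c hc => by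
    obtain ⟨w, hw⟩ := hscal c hc
    rw [← hρc, ← hfn]
    exact (Characters.Diag.norm_char_eq_finrank_iff ρ c).mpr
      ⟨w, by rw [hw, Module.End.one_eq_id]⟩
  have hoff : ∀ g ∉ Subgroup.center (G ⧸ K), (φ : G ⧸ K → ℂ) g = 0 := by
    intro g hg
    rw [Subgroup.mem_center_iff] at hg
    push Not at hg
    obtain ⟨x, hx⟩ := hg
    set c := ⁅x, g⁆ with hcdef
    have hc : c ∈ Subgroup.center (G ⧸ K) := hSZ (comm_mem x g)
    obtain ⟨w, hw⟩ := hscal c hc
    have hcg : c * g = x * g * x⁻¹ := by rw [hcdef, commutatorElement_def]; group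
    have h1 : (φ : G ⧸ K → ℂ) (c * g) = w * (φ : G ⧸ K → ℂ) g := by
      rw [← hρc]
      simp only [Representation.character, map_mul, hw, smul_mul_assoc, one_mul, map_smul,
        smul_eq_mul]
    rw [hcg, isClassFunction_irr φ g x] at h1
    by_contra h0
    have hw1 : w = 1 := by
      have : (w - 1) * (φ : G ⧸ K → ℂ) g = 0 := by rw [sub_mul, one_mul, ← h1, sub_self]
      exact sub_eq_zero.mp ((mul_eq_zero.mp this).resolve_right h0)
    have hcker : c ∈ Characters.Kernel.charKer (isCharacter_irr φ) := by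
      rw [Characters.Kernel.mem_charKer, ← hρc, Representation.char_one,
        Characters.Diag.char_eq_finrank_iff, hw, hw1, one_smul, Module.End.one_eq_id]
    rw [hker, Subgroup.mem_bot, hcdef, commutatorElement_eq_one_iff_mul_comm] at hcker
    exact hx hcker
  set β : Cfsg.IrrCharacter G :=
    ⟨_, isIrrCharacter_comp (QuotientGroup.mk' K) (QuotientGroup.mk'_surjective K) φ.2⟩
  refine ⟨(Subgroup.center (G ⧸ K)).comap (QuotientGroup.mk' K),
    Basic.small_of_fullyRamified h hb _ β (f := f) ?_ hf2 (fun g hg => hoff _ hg)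
      (fun g hg => hon _ hg)⟩
  show (φ : G ⧸ K → ℂ) (QuotientGroup.mk' K 1) = f
  rw [map_one, hf]

/-- Small index over a subgroup containing `K`. -/
theorem index_le_of_card_le {H : Subgroup G} {r : ℕ} (hr : H.index ≤ r)
    (hc : Nat.card H ≤ b ^ 2 * Nat.card K) : K.index ≤ r * b ^ 2 := by
  refine Nat.le_of_mul_le_mul_right ?_ (Nat.card_pos (α := K))
  rw [K.index_mul_card, ← H.index_mul_card, mul_assoc]
  exact Nat.mul_le_mul hr hc

theorem card_le_of_vanish_on {H : Subgroup G} (hKH : K ≤ H) (ψ : Cfsg.IrrCharacter H)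
    (hψ : (ψ : H → ℂ) 1 = b) (hoff : ∀ x : H, (x : G) ∉ K → (ψ : H → ℂ) x = 0) :
    Nat.card H ≤ b ^ 2 * Nat.card K := by
  rw [← Nat.card_congr (Subgroup.subgroupOfEquivOfLe hKH).toEquiv]
  exact Basic.card_le_of_vanish ψ hψ (K.subgroupOf H)
    fun x hx => hoff x fun h => hx (Subgroup.mem_subgroupOf.mpr h)

/-- The case of a non-abelian derived quotient. -/
theorem perfect_case (h : Small (b + 1) G) (hb : 0 < b) (hm : Mono (G ⧸ K))
    (hna : commutator (G ⧸ K) ≠ ⊥)
    (hnab : ¬ ∀ a ∈ commutator (G ⧸ K), ∀ c ∈ commutator (G ⧸ K), a * c = c * a) :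
    (∃ H : Subgroup G, Small b H ∧ H.index ≤ b ^ 2) ∨ (5 ≤ b ∧ K.index ≤ b ^ 4) := by
  classical
  have hS : Small (b + 1) (G ⧸ K) := h.quotient K
  set P := commutator (G ⧸ K) with hP
  have hperf : commutator P = ⊤ := by
    have hne : ⁅P, P⁆ ≠ ⊥ := fun e => hnab fun a ha c hc => by
      rw [← commutatorElement_eq_one_iff_mul_comm, ← Subgroup.mem_bot, ← e]
      exact Subgroup.commutator_mem_commutator ha hc
    have heq : ⁅P, P⁆ = P := le_antisymm (Subgroup.commutator_le_left P P)
      (hm _ inferInstance hne)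
    refine Subgroup.map_injective P.subtype_injective ?_
    rw [Subgroup.map_subtype_commutator, heq, ← MonoidHom.range_eq_map, Subgroup.range_subtype]
  haveI : Nontrivial P := (Subgroup.nontrivial_iff_ne_bot P).mpr hna
  have h5 : 5 ≤ b := Perfect.five_le hperf (hS.subgroup P)
  haveI : Nontrivial (G ⧸ K) := by
    obtain ⟨a, c, hac⟩ := exists_pair_ne P
    exact ⟨a, c, fun e => hac (Subtype.ext e)⟩
  obtain ⟨y, hy1, hy⟩ := Basic.exists_small_class hS
  set H := (Subgroup.centralizer ({y} : Set (G ⧸ K))).comap (QuotientGroup.mk' K) with hH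
  have hidx : H.index ≤ b ^ 2 := by
    rw [hH, Subgroup.index_comap_of_surjective _ (QuotientGroup.mk'_surjective K)]
    exact hy
  have hKH : K ≤ H := (QuotientGroup.ker_mk' K).ge.trans (MonoidHom.ker_le_comap _ _)
  by_cases hsm : Small b H
  · exact Or.inl ⟨H, hsm, hidx⟩
  refine Or.inr ⟨h5, ?_⟩
  have := Fintype.ofFinite H
  obtain ⟨ψ, hψ⟩ := Basic.exists_degree_eq (h.subgroup H) hsm
  have hcore : H.normalCore ≤ K := by
    by_contra hnot
    have hne : H.normalCore.map (QuotientGroup.mk' K) ≠ ⊥ := fun e => hnot (by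
      rw [Subgroup.map_eq_bot_iff, QuotientGroup.ker_mk'] at e
      exact e)
    have hPle := hm _ (Subgroup.Normal.map inferInstance _ (QuotientGroup.mk'_surjective K)) hne
    have hPy : P ≤ Subgroup.centralizer ({y} : Set (G ⧸ K)) :=
      hPle.trans (Subgroup.map_le_iff_le_comap.mpr H.normalCore_le)
    have hyD : y ∈ Subgroup.centralizer (P : Set (G ⧸ K)) :=
      Subgroup.mem_centralizer_iff.mpr fun a ha =>
        Subgroup.mem_centralizer_singleton_iff.mp (hPy ha)
    have hPD := hm (Subgroup.centralizer (P : Set (G ⧸ K))) inferInstance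
      fun e => hy1 (Subgroup.mem_bot.mp (e ▸ hyD))
    exact hnab fun a ha c hc => (Subgroup.mem_centralizer_iff.mp (hPD hc) a ha)
  have hc := card_le_of_vanish_on K hKH ψ hψ fun x hx =>
    Basic.vanish_off_core h H ψ hψ hb fun hx' => hx (hcore hx')
  exact (index_le_of_card_le K hidx hc).trans (le_of_eq (by ring))

/-- The case of an abelian derived quotient and trivial centre. -/
theorem metabelian_case (h : Small (b + 1) G) (hb : 2 ≤ b) (hm : Mono (G ⧸ K))
    (hna : commutator (G ⧸ K) ≠ ⊥) (hZ : Subgroup.center (G ⧸ K) = ⊥)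
    (hab : ∀ a ∈ commutator (G ⧸ K), ∀ c ∈ commutator (G ⧸ K), a * c = c * a)
    (hhalf : Small (b / 2 + 1) K) :
    (∃ H : Subgroup G, Small b H ∧ H.index ≤ b ^ 2) ∨ (3 ≤ b ∧ K.index ≤ b ^ 3) := by
  classical
  have := Fintype.ofFinite G
  have := Fintype.ofFinite (G ⧸ K)
  set M := commutator (G ⧸ K) with hMdef
  haveI : Nontrivial M := (Subgroup.nontrivial_iff_ne_bot M).mpr hna
  have hfix := fun {g : G ⧸ K} (hg : g ∉ M) {m : G ⧸ K} (hmM : m ∈ M) =>
    fixed_eq_one hm hZ hab hna hg hmM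
  -- a nontrivial linear character of `M`
  obtain ⟨m₀, hm₀⟩ := exists_ne (1 : M)
  obtain ⟨θ, hθ⟩ := Characters.Kernel.exists_apply_ne_degree hm₀
  have hθ1 : (θ : M → ℂ) 1 = 1 := Characters.Linear.degree_eq_one_of_comm
    (fun a c => Subtype.ext (hab _ a.2 _ c.2)) θ
  have hmulθ := Characters.Linear.apply_mul_of_degree_one (isCharacter_irr θ) hθ1
  have hfree : ∀ g : G ⧸ K, conjC M g (θ : M → ℂ) = θ → g ∈ M := by
    intro g hg
    by_contra hgM
    obtain ⟨x, hx, hxc⟩ := exists_commutator hm hZ hab hna hgM m₀.2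
    refine hθ ?_
    have h1 := congrFun hg ⟨x, hx⟩
    rw [conjC_apply] at h1
    have e : (⟨g * x * g⁻¹, (inferInstance : M.Normal).conj_mem x hx g⟩ : M) = m₀ * ⟨x, hx⟩ := by
      refine Subtype.ext ?_
      show g * x * g⁻¹ = (m₀ : G ⧸ K) * x
      rw [← hxc, commutatorElement_def]
      group
    rw [e, hmulθ] at h1
    have hx0 : (θ : M → ℂ) ⟨x, hx⟩ ≠ 0 := by
      intro e0
      have := hmulθ ⟨x, hx⟩ (⟨x, hx⟩ : M)⁻¹
      rw [mul_inv_cancel, hθ1, e0, zero_mul] at this
      exact one_ne_zero this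
    rw [hθ1]
    exact (mul_eq_right₀ hx0).mp h1
  have := Fintype.ofFinite M
  have hβ : Cfsg.IsIrrCharacter (G ⧸ K) (Cfsg.indFun M (θ : M → ℂ)) :=
    Induced.Mackey.isIrrCharacter_indFun M θ.2 hfree
  have hfb : M.index ≤ b := Basic.degree_le_of_irr (h.quotient K) hβ
    (by rw [indFun_one, hθ1, mul_one])
  have hMtop : M ≠ ⊤ := by
    intro e
    refine hna ((commutator_eq_bot_iff_comm).mpr fun a c => ?_)
    exact hab a (by rw [e]; trivial) c (by rw [e]; trivial)
  have hf2 : 2 ≤ M.index := by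
    have h0 : M.index ≠ 0 := Subgroup.index_ne_zero_of_finite
    have h1 : M.index ≠ 1 := fun e => hMtop (Subgroup.index_eq_one.mp e)
    omega
  set H := M.comap (QuotientGroup.mk' K) with hH
  haveI : H.Normal := Subgroup.Normal.comap inferInstance _
  have hidx : H.index = M.index :=
    Subgroup.index_comap_of_surjective _ (QuotientGroup.mk'_surjective K)
  have hKH : K ≤ H := (QuotientGroup.ker_mk' K).ge.trans (MonoidHom.ker_le_comap _ _)
  by_cases hsm : Small b H
  · exact Or.inl ⟨H, hsm, by rw [hidx]; nlinarith⟩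
  have := Fintype.ofFinite H
  obtain ⟨ψ, hψ⟩ := Basic.exists_degree_eq (h.subgroup H) hsm
  obtain ⟨χ, hχ⟩ := exists_over H ψ
  have hr := Basic.restrict_eq h H ψ hψ (by omega) χ hχ
  let π : H →* M := ((QuotientGroup.mk' K).comp H.subtype).codRestrict M fun x => x.2
  set lam : H → ℂ := (θ : M → ℂ) ∘ π
  have hlamc : Cfsg.IsCharacter H lam := isCharacter_comp π (isCharacter_irr θ)
  have hlam1 : lam 1 = 1 := by simp [lam, hθ1]
  have hprod : Cfsg.IsIrrCharacter H (lam * (ψ : H → ℂ)) :=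
    Characters.Linear.isIrrCharacter_linear_mul hlamc hlam1 ψ.2
  obtain ⟨g, hg, hgH⟩ : ∃ g : G, conjC H g (lam * (ψ : H → ℂ)) = lam * (ψ : H → ℂ) ∧ g ∉ H := by
    by_contra hcon
    push Not at hcon
    have hirr := Induced.Mackey.isIrrCharacter_indFun H hprod hcon
    have := Basic.degree_le_of_irr h hirr (d := H.index * b)
      (by rw [indFun_one, Pi.mul_apply, hlam1, one_mul, hψ, Nat.cast_mul])
    rw [hidx] at this
    nlinarith
  set gb : G ⧸ K := QuotientGroup.mk' K g with hgb
  -- the points of `M` which `θ` and its conjugate do not separate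
  let D : Subgroup (G ⧸ K) :=
    { carrier := {m | ∃ hm' : m ∈ M, (θ : M → ℂ) ⟨gb * m * gb⁻¹,
        (inferInstance : M.Normal).conj_mem m hm' gb⟩ = (θ : M → ℂ) ⟨m, hm'⟩}
      one_mem' := ⟨one_mem M, congrArg (θ : M → ℂ) (Subtype.ext (show gb * 1 * gb⁻¹ = 1 by group))⟩
      mul_mem' := by
        rintro a c ⟨ha, hae⟩ ⟨hc, hce⟩
        refine ⟨mul_mem ha hc, ?_⟩
        have e1 : (⟨gb * (a * c) * gb⁻¹, (inferInstance : M.Normal).conj_mem _ (mul_mem ha hc) gb⟩ : M)
            = ⟨gb * a * gb⁻¹, (inferInstance : M.Normal).conj_mem a ha gb⟩ *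
              ⟨gb * c * gb⁻¹, (inferInstance : M.Normal).conj_mem c hc gb⟩ :=
          Subtype.ext (show gb * (a * c) * gb⁻¹ = (gb * a * gb⁻¹) * (gb * c * gb⁻¹) by group)
        rw [e1, hmulθ, hae, hce, ← hmulθ]
        rfl
      inv_mem' := by
        rintro a ⟨ha, hae⟩
        refine ⟨inv_mem ha, ?_⟩
        have e1 : (⟨gb * a⁻¹ * gb⁻¹, (inferInstance : M.Normal).conj_mem _ (inv_mem ha) gb⟩ : M)
            = (⟨gb * a * gb⁻¹, (inferInstance : M.Normal).conj_mem a ha gb⟩ : M)⁻¹ :=
          Subtype.ext (show gb * a⁻¹ * gb⁻¹ = (gb * a * gb⁻¹)⁻¹ by group)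
        rw [e1, apply_inv (isCharacter_irr θ), hae, ← apply_inv (isCharacter_irr θ)]
        rfl }
  have hgbM : gb ∉ M := fun h' => hgH h'
  have hDcore : D.normalCore = ⊥ := by
    by_contra hne
    have hMD : M ≤ D := (hm _ inferInstance hne).trans D.normalCore_le
    refine hgbM (hfree gb (funext fun m => ?_))
    obtain ⟨_, e⟩ := hMD m.2
    exact e
  have hoff : ∀ x : H, (x : G) ∉ K → (ψ : H → ℂ) x = 0 := by
    intro x hxK
    by_contra hne
    refine hxK ?_
    rw [← QuotientGroup.eq_one_iff, ← QuotientGroup.mk'_apply, ← Subgroup.mem_bot, ← hDcore]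
    intro c
    obtain ⟨c', rfl⟩ := QuotientGroup.mk'_surjective K c
    set y : H := ⟨c' * x * c'⁻¹, (inferInstance : H.Normal).conj_mem _ x.2 c'⟩ with hydef
    have hψy : (ψ : H → ℂ) y = (ψ : H → ℂ) x := by
      rw [← congrFun hr y, ← congrFun hr x]
      exact isClassFunction_irr χ (x : G) c'
    have h1 := congrFun hg y
    rw [conjC_apply, Pi.mul_apply, Pi.mul_apply] at h1
    set y' : H := ⟨g * y * g⁻¹, (inferInstance : H.Normal).conj_mem _ y.2 g⟩ with hy'def
    have hψy' : (ψ : H → ℂ) y' = (ψ : H → ℂ) y := by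
      rw [← congrFun hr y', ← congrFun hr y]
      exact isClassFunction_irr χ (y : G) g
    rw [hψy', hψy] at h1
    have h2 := mul_right_cancel₀ hne h1
    rw [← map_inv, ← map_mul, ← map_mul]
    refine ⟨y.2, ?_⟩
    refine Eq.trans ?_ h2
    exact congrArg (θ : M → ℂ) (Subtype.ext (show gb * QuotientGroup.mk' K (y : G) * gb⁻¹ =
      QuotientGroup.mk' K (g * y * g⁻¹) by simp [gb, map_mul, map_inv]))
  have hc := card_le_of_vanish_on K hKH ψ hψ hoff
  have hbound : K.index ≤ b ^ 3 :=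
    (index_le_of_card_le K (hidx.le.trans hfb) hc).trans (le_of_eq (by ring))
  rcases (show 3 ≤ b ∨ b = 2 by omega) with h3 | h2
  · exact Or.inr ⟨h3, hbound⟩
  exfalso
  -- the derived quotient has odd order, while the norm of `ψ` on `K` is even
  have hM2 : M.index = 2 := by omega
  have hodd : Odd (Nat.card M) := by
    refine MonoidHom.FixedPointFree.odd_card_of_involutive
      (φ := (MulAut.conjNormal gb : MulAut M).toMonoidHom) ?_ ?_
    · intro m hmfix
      refine Subtype.ext (hfix hgbM m.2 ?_)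
      rw [← mul_inv_eq_iff_eq_mul]
      exact congrArg Subtype.val hmfix
    · intro m
      refine Subtype.ext ?_
      show gb * (gb * (m : G ⧸ K) * gb⁻¹) * gb⁻¹ = m
      have hsq : gb * gb ∈ M := by
        have := Subgroup.mul_mem_iff_of_index_two hM2 (a := gb) (b := gb)
        exact this.mpr Iff.rfl
      rw [show gb * (gb * (m : G ⧸ K) * gb⁻¹) * gb⁻¹ = (gb * gb) * m * (gb * gb)⁻¹ by group,
        hab _ hsq _ m.2, mul_inv_cancel_right]
  have := Fintype.ofFinite K
  have := Fintype.ofFinite (K.subgroupOf H)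
  have := Fintype.ofFinite (Cfsg.IrrCharacter (K.subgroupOf H))
  -- the restriction of `ψ` to `K`
  set r : K.subgroupOf H → ℂ := fun x => (ψ : H → ℂ) x
  have hrc : Cfsg.IsCharacter (K.subgroupOf H) r :=
    isCharacter_comp (K.subgroupOf H).subtype (isCharacter_irr ψ)
  choose a ha using fun φ : Cfsg.IrrCharacter (K.subgroupOf H) =>
    exists_classInner_nat hrc (isCharacter_irr φ)
  have hlinear : ∀ φ : Cfsg.IrrCharacter (K.subgroupOf H),
      (φ : K.subgroupOf H → ℂ) 1 = 1 := fun φ => by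
    refine Characters.Linear.degree_eq_one_of_comm (fun u v => ?_) φ
    have hcomm : ∀ p q : K, p * q = q * p := comm_of_degree_one fun η => by
      have := hhalf η
      have := charDegree_pos η
      omega
    exact (Subgroup.subgroupOfEquivOfLe hKH).injective (by rw [map_mul, map_mul, hcomm])
  have hexp := classFunction_eq_sum (isClassFunction_of_isCharacter hrc)
  have hsum : ∑ φ, a φ = 2 := by
    have h1 := congrFun hexp 1
    simp only [Finset.sum_apply, Pi.smul_apply, smul_eq_mul, ha, hlinear, mul_one] at h1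
    have h2' : r 1 = (2 : ℕ) := by
      show (ψ : H → ℂ) 1 = _
      rw [hψ, h2]
    rw [h2', ← Nat.cast_sum] at h1
    exact_mod_cast h1.symm
  have hnorm : Cfsg.classInner r r = ((∑ φ, a φ * a φ : ℕ) : ℂ) := by
    conv_lhs => arg 1; rw [hexp]
    rw [classInner_sum_left]
    push_cast
    refine Finset.sum_congr rfl fun φ _ => ?_
    rw [classInner_smul_left, ha, ← classInner_conj_symm, ha, Complex.conj_natCast]
  have hcardH : Nat.card H = (∑ φ, a φ * a φ) * Nat.card K := by
    have h1 := classInner_self_irr ψ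
    rw [Cfsg.classInner, inv_mul_eq_one₀ natCard_ne_zero] at h1
    have h2' := hnorm
    rw [Cfsg.classInner, inv_mul_eq_iff_eq_mul₀ natCard_ne_zero] at h2'
    rw [Nat.card_congr (Subgroup.subgroupOfEquivOfLe hKH).toEquiv] at h2'
    have h3' : ∑ x : H, (ψ : H → ℂ) x * conj ((ψ : H → ℂ) x) =
        ∑ x : K.subgroupOf H, r x * conj (r x) := by
      rw [← Finset.sum_filter_add_sum_filter_not Finset.univ (fun x : H => x ∈ K.subgroupOf H),
        Finset.sum_eq_zero (s := Finset.univ.filter fun x : H => ¬ x ∈ K.subgroupOf H) fun x hx => by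
          rw [hoff x fun hx' => (Finset.mem_filter.mp hx).2 (Subgroup.mem_subgroupOf.mpr hx'),
            zero_mul], add_zero]
      exact Finset.sum_subtype (p := (· ∈ K.subgroupOf H)) _ (by simp)
        (fun x : H => (ψ : H → ℂ) x * conj ((ψ : H → ℂ) x))
    have h4 : (Nat.card H : ℂ) = (Nat.card K : ℂ) * ((∑ φ, a φ * a φ : ℕ) : ℂ) :=
      h1.trans (h3'.trans h2')
    rw [← Nat.cast_mul] at h4
    rw [Nat.cast_inj.mp h4, mul_comm]
  have heven : Even (∑ φ, a φ * a φ) := by
    have h1 : (∑ φ, a φ * a φ) % 2 = (∑ φ, a φ) % 2 := by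
      rw [Finset.sum_nat_mod]
      conv_rhs => rw [Finset.sum_nat_mod]
      congr 1
      refine Finset.sum_congr rfl fun φ _ => ?_
      rw [Nat.mul_mod]
      rcases Nat.mod_two_eq_zero_or_one (a φ) with e | e <;> simp [e]
    rw [hsum] at h1
    exact Nat.even_iff.mpr h1
  refine Nat.not_even_iff_odd.mpr hodd ?_
  suffices Nat.card M = ∑ φ, a φ * a φ by rw [this]; exact heven
  refine Nat.eq_of_mul_eq_mul_right (Nat.card_pos (α := K)) ?_
  rw [← hcardH]
  refine Nat.eq_of_mul_eq_mul_left (show 0 < H.index by omega) ?_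
  rw [H.index_mul_card, ← mul_assoc, hidx, M.index_mul_card]
  exact (Subgroup.card_eq_card_quotient_mul_card_subgroup K).symm

end Cfsg.Agent.Lib.IsaacsIndex.Step
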