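import Cfsg.Agent.Lib.IsaacsIndex.Half
import Cfsg.Agent.Lib.IsaacsIndex.Step
import Mathlib.Data.Nat.Factorial.Basic

/-!
# An abelian subgroup of index at most `(b!)²`
-/

set_option autoImplicit false
set_option linter.unusedSectionVars false

namespace Cfsg.Agent.Lib.IsaacsIndex.Main

open Cfsg.Agent.Lib.SmallDegrees.Basic
open Cfsg.Agent.Lib.IsaacsIndex.Mono

universe u

/-- An abelian subgroup of index at most `r`. -/
def HasAb (G : Type u) [Group G] (r : ℕ) : Prop :=
  ∃ A : Subgroup G, (∀ x ∈ A, ∀ y ∈ A, x * y = y * x) ∧ A.index ≤ r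

variable {G : Type u} [Group G]

theorem hasAb_of_subgroup {H : Subgroup G} {r s t : ℕ} (hH : HasAb H r) (hs : H.index ≤ s)
    (ht : r * s ≤ t) : HasAb G t := by
  obtain ⟨A, hA, hr⟩ := hH
  refine ⟨A.map H.subtype, ?_, ?_⟩
  · rintro _ ⟨x, hx, rfl⟩ _ ⟨y, hy, rfl⟩
    rw [← map_mul, ← map_mul, hA x hx y hy]
  · rw [Subgroup.index_map_subtype]
    exact (Nat.mul_le_mul hr hs).trans ht

theorem factorial_prev {b : ℕ} (hb : 1 ≤ b) : b.factorial = b * (b - 1).factorial :=
  (Nat.mul_factorial_pred (by omega)).symm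

theorem bound_three {b : ℕ} (hb : 3 ≤ b) :
    ((b / 2).factorial) ^ 2 * b ^ 3 ≤ (b.factorial) ^ 2 := by
  have h1 : (b / 2).factorial ≤ (b - 2).factorial := by
    rcases (show b = 3 ∨ b / 2 ≤ b - 2 by omega) with rfl | h
    · decide
    · exact Nat.factorial_le h
  rw [factorial_prev (by omega : 1 ≤ b), factorial_prev (by omega : 1 ≤ b - 1),
    show b - 1 - 1 = b - 2 by omega]
  have h2 : b ≤ (b - 1) ^ 2 := by
    obtain ⟨c, rfl⟩ : ∃ c, b = c + 3 := ⟨b - 3, by omega⟩
    rw [show c + 3 - 1 = c + 2 by omega]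
    nlinarith
  calc (b / 2).factorial ^ 2 * b ^ 3 = b ^ 2 * b * (b / 2).factorial ^ 2 := by ring
    _ ≤ b ^ 2 * (b - 1) ^ 2 * (b - 2).factorial ^ 2 :=
      Nat.mul_le_mul (Nat.mul_le_mul_left _ h2) (Nat.pow_le_pow_left h1 2)
    _ = _ := by ring

theorem bound_four {b : ℕ} (hb : 5 ≤ b) :
    ((b / 2).factorial) ^ 2 * b ^ 4 ≤ (b.factorial) ^ 2 := by
  have h1 : (b / 2).factorial ≤ (b - 3).factorial := Nat.factorial_le (by omega)
  rw [factorial_prev (by omega : 1 ≤ b), factorial_prev (by omega : 1 ≤ b - 1),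
    show b - 1 - 1 = b - 2 by omega, factorial_prev (by omega : 1 ≤ b - 2),
    show b - 2 - 1 = b - 3 by omega]
  have h2 : b ≤ (b - 1) * (b - 2) := by
    obtain ⟨c, rfl⟩ : ∃ c, b = c + 5 := ⟨b - 5, by omega⟩
    rw [show c + 5 - 1 = c + 4 by omega, show c + 5 - 2 = c + 3 by omega]
    nlinarith
  calc (b / 2).factorial ^ 2 * b ^ 4 = b ^ 2 * b ^ 2 * (b / 2).factorial ^ 2 := by ring
    _ ≤ b ^ 2 * ((b - 1) * (b - 2)) ^ 2 * (b - 3).factorial ^ 2 :=
      Nat.mul_le_mul (Nat.mul_le_mul_left _ (Nat.pow_le_pow_left h2 2))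
        (Nat.pow_le_pow_left h1 2)
    _ = _ := by ring

/-- Groups with degrees at most `b` have an abelian subgroup of index at most `(b!)²`. -/
theorem hasAb_of_small : ∀ (b : ℕ) (G : Type u) [Group G] [Finite G], Small (b + 1) G →
    HasAb G (b.factorial ^ 2) := by
  intro b
  induction b using Nat.strong_induction_on with
  | _ b ih =>
    intro G _ _ h
    by_cases hc : commutator G = ⊥
    · refine ⟨⊤, fun x _ y _ => (commutator_eq_bot_iff_comm.mp hc) x y, ?_⟩
      rw [Subgroup.index_top]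
      exact Nat.one_le_pow _ _ (Nat.factorial_pos b)
    have hb : 2 ≤ b := by
      by_contra hlt
      refine hc (commutator_eq_bot_iff_comm.mpr (comm_of_degree_one fun χ => ?_))
      have := h χ
      have := DegreeBounds.Basic.charDegree_pos χ
      omega
    obtain ⟨K, hKn, hK, hm⟩ := exists_mono hc
    have hhalf := Half.small_half h K hK
    have hna : commutator (G ⧸ K) ≠ ⊥ := by
      intro e
      refine hK ?_
      rw [commutator_def, Subgroup.commutator_le]
      intro x _ y _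
      rw [← QuotientGroup.eq_one_iff, ← QuotientGroup.mk'_apply, map_commutatorElement,
        ← Subgroup.mem_bot, ← e]
      exact comm_mem _ _
    have key : (∃ H : Subgroup G, Small b H ∧ H.index ≤ b ^ 2) ∨
        (3 ≤ b ∧ K.index ≤ b ^ 3) ∨ (5 ≤ b ∧ K.index ≤ b ^ 4) := by
      by_cases hZ : Subgroup.center (G ⧸ K) = ⊥
      · by_cases hab : ∀ a ∈ commutator (G ⧸ K), ∀ c ∈ commutator (G ⧸ K), a * c = c * a
        · exact (Step.metabelian_case K h hb hm hna hZ hab hhalf).imp_right Or.inl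
        · exact (Step.perfect_case K h (by omega) hm hna hab).imp_right Or.inr
      · exact Or.inl (Step.central_case K h (by omega) hm hna hZ)
    rcases key with ⟨H, hH, hHi⟩ | ⟨h3, hKi⟩ | ⟨h5, hKi⟩
    · refine hasAb_of_subgroup (ih (b - 1) (by omega) H
        (by rwa [show b - 1 + 1 = b by omega])) hHi (le_of_eq ?_)
      rw [factorial_prev (by omega : 1 ≤ b)]
      ring
    · exact hasAb_of_subgroup (ih (b / 2) (by omega) K hhalf) hKi (bound_three h3)
    · exact hasAb_of_subgroup (ih (b / 2) (by omega) K hhalf) hKi (bound_four h5)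

end Cfsg.Agent.Lib.IsaacsIndex.Main
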